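import Mathlib
import Cfsg.Agent.Lib.TcPres
import Cfsg.Prelude.Def_Spor_HN


set_option autoImplicit false

namespace Cfsg.Agent.TcData.HNX

open Cfsg.Spor Cfsg.Agent.Lib.TcFacts Cfsg.Agent.Lib.TcBits Cfsg.Agent.Lib.TcPres Cfsg.Spor.HN

/-- The relators with one more. -/
noncomputable def extraX : List (FreeGroup Gen) := extra ++ [x * y * y * z * y⁻¹ * t]

/-- The relators of the presentation. -/
abbrev RR : Set (FreeGroup Gen) := coxRelators edges ∪ {r | r ∈ extraX}

/-- The letter of a signed generator. -/
def enc : Gen → Bool → ℕ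
  | .x, true => 0
  | .x, false => 1
  | .y, true => 2
  | .y, false => 3
  | .z, _ => 4
  | .t, true => 5
  | .t, false => 6

/-- The letters. -/
noncomputable def gL : List (FreeGroup Gen) :=
  [FreeGroup.of .x, (FreeGroup.of .x)⁻¹, FreeGroup.of .y, (FreeGroup.of .y)⁻¹, FreeGroup.of .z, FreeGroup.of .t, (FreeGroup.of .t)⁻¹]

/-- The nodes of the graph. -/
def nodesL : List Gen := []

/-- The generators. -/
def gensL : List Gen := [.x, .y, .z, .t]

/-- All relators, as a list. -/
noncomputable def relL : List (FreeGroup Gen) := relAll edges nodesL extraX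

theorem hrel : ∀ r ∈ relL, PresentedGroup.mk RR r = 1 := relAll_spec (by decide)

theorem hnodes : ∀ x ∈ coxNodes edges, x ∈ nodesL := by decide

theorem hL : ∀ x b, enc x b < 7 := by
  intro x b; cases x <;> cases b <;> decide

theorem hlen : 7 = gL.length := rfl

theorem zinv : (PresentedGroup.of Gen.z : PresentedGroup RR)⁻¹ = PresentedGroup.of Gen.z := by
  have h : PresentedGroup.mk RR (FreeGroup.of Gen.z ^ 2) = 1 :=
    (QuotientGroup.eq_one_iff _).mpr (Subgroup.subset_normalClosure (Or.inr (by decide +kernel)))
  rw [map_pow, pow_two] at h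
  exact inv_eq_of_mul_eq_one_left h

theorem hℓ (macros : List (FreeGroup Gen)) : ∀ x b, letter RR gL macros (enc x b) =
    cond b (PresentedGroup.of x) (PresentedGroup.of x)⁻¹ := by
  intro x b
  cases x <;> cases b <;>
    first
      | rfl
      | exact map_inv _ _
      | exact (inv_of_node (by decide)).symm
      | exact zinv.symm

end Cfsg.Agent.TcData.HNX
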